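import Cfsg.Agent.Lib.Helper9.TC2Pack

set_option autoImplicit false
set_option maxRecDepth 100000

namespace Cfsg.Agent.Helper9.TCData.HeCX
open Cfsg.Agent.Helper9.TC2
noncomputable def entT_0 : BT := (BT.node 6 (BT.node 2 (BT.leaf 0x2e17c8000000000000016a420021) (BT.node 4 (BT.leaf 0x5010000000000000020274062) (BT.leaf 0x1a0ba17a8000000000001819aa600a3))) (BT.node 10 (BT.node 8 (BT.leaf 0x1c2af4d2848c89c00100906e89c08e4) (BT.leaf 0x1aab04d48000000a00008c6f8a10925)) (BT.node 12 (BT.leaf 0x1b2b14d6800060172aa4686c8980966) (BT.leaf 0x1bab24d88400710001a6886f0a009e7))))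

noncomputable def cerT_0 : BT := (BT.node 6 (BT.node 2 (BT.leaf 0x2010000000000000200) (BT.node 4 (BT.leaf 0x20000000000020000) (BT.leaf 0x253090000000002001b00))) (BT.node 10 (BT.node 8 (BT.leaf 0x2111190221000221191100) (BT.leaf 0x4139310000020029292900)) (BT.node 12 (BT.leaf 0x5949510002696159514900) (BT.leaf 0x7989810202007179717100))))

noncomputable def lkT_0 : BT := (BT.leaf 0x7297617e12842603602c04a1780800000)

noncomputable def lcT_0 : BT := (BT.leaf 0x10484161054c065050405004c41200a50284000)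

noncomputable def pnT_0 : BT := (BT.leaf 0x420221c0a0806040200000)

noncomputable def clsT_0 : BT := (BT.leaf 0x0)

noncomputable def repT_0 : BT := (BT.leaf 0x0)

noncomputable def tauT_0 : BT := (BT.node 6 (BT.node 2 (BT.leaf 0x0) (BT.node 4 (BT.leaf 0x0) (BT.leaf 0x0))) (BT.node 10 (BT.node 8 (BT.leaf 0x0) (BT.leaf 0x0)) (BT.node 12 (BT.leaf 0x0) (BT.leaf 0x0))))


end Cfsg.Agent.Helper9.TCData.HeCX
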