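import Cfsg.Agent.Lib.Helper9.TC2Cox
import Cfsg.Agent.Lib.Helper9.TC2Aux
import Cfsg.Agent.Lib.Helper9.TC2BSGS
import Cfsg.Agent.Lib.Helper9.TC2Pack
import Cfsg.Agent.Lib.Helper9.TCData.HeCX.P0

set_option autoImplicit false
set_option maxRecDepth 100000

namespace Cfsg.Agent.Helper9.TCData.HeCX
open Cfsg.Agent.Helper9.TC2
/-- The rotated relators. -/
noncomputable def rotT : WT := (WT.node 11 (WT.node 5 (WT.node 2 (WT.node 1 (WT.leaf [0, 3, 2, 3, 2, 3, 2, 3, 2, 3, 2]) (WT.leaf [2, 1, 2, 1, 2, 1])) (WT.node 3 (WT.leaf [3, 0, 3, 0]) (WT.node 4 (WT.leaf [3, 1, 3, 1]) (WT.leaf [3, 5, 6])))) (WT.node 8 (WT.node 6 (WT.leaf [4, 6, 5, 6, 5]) (WT.node 7 (WT.leaf [4, 1, 4, 1]) (WT.leaf [4, 0, 4, 0]))) (WT.node 9 (WT.leaf [4, 2, 4, 2]) (WT.node 10 (WT.leaf [5, 0, 5, 0]) (WT.leaf [5, 1,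 5, 1]))))) (WT.node 17 (WT.node 14 (WT.node 12 (WT.leaf [5, 2, 5, 2]) (WT.node 13 (WT.leaf [5, 6, 3]) (WT.leaf [5, 4, 5, 4]))) (WT.node 15 (WT.leaf [6, 3, 5]) (WT.node 16 (WT.leaf [6, 2, 6, 2]) (WT.leaf [6, 1, 6, 1])))) (WT.node 20 (WT.node 18 (WT.leaf [6, 0, 6, 0]) (WT.node 19 (WT.leaf [3, 2, 3, 2, 3, 2, 3, 2, 3, 2, 0]) (WT.leaf [3, 5, 3, 5, 3, 5]))) (WT.node 21 (WT.leaf [3, 6, 3, 6, 3, 6]) (WT.node 22 (WT.leaf [0, 1, 0, 1, 0, 1, 0, 1]) (WT.leaf [4, 2, 1, 0, 2, 1, 0, 2, 1, 0]))))))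

/-- The sources of the rotated relators: relator and rotation. -/
def rotSrc : List (ℕ × ℕ) := [(51, 0), (9, 5), (3, 3), (10, 3), (53, 2), (49, 0), (11, 1), (4, 1), (18, 1), (35, 2), (36, 2), (37, 2), (53, 0), (33, 3), (53, 1), (20, 3), (13, 1), (6, 1), (51, 1), (26, 0), (27, 0), (1, 0), (50, 0)]

/-- The relators, as words of columns. -/
def relWords : List (List ℕ) := [[0, 0], [0, 1, 0, 1, 0, 1, 0, 1], [0, 2, 0, 2], [0, 3, 0, 3], [0, 4, 0, 4], [0, 5, 0, 5], [0, 6, 0, 6], [1, 0, 1, 0, 1, 0, 1, 0], [1, 1], [1, 2, 1, 2, 1, 2], [1, 3, 1, 3], [1, 4, 1, 4], [1, 5, 1, 5], [1, 6, 1, 6], [2, 0, 2, 0], [2, 1, 2, 1, 2, 1], [2, 2], [2, 3, 2, 3, 2, 3, 2, 3, 2, 3, 2, 3, 2, 3, 2, 3, 2, 3, 2, 3], [2, 4, 2, 4], [2, 5, 2, 5], [2, 6, 2, 6], [3, 0, 3, 0], [3, 1, 3, 1], [3, 2, 3, 2, 3, 2, 3,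 2, 3, 2, 3, 2, 3, 2, 3, 2, 3, 2, 3, 2], [3, 3], [3, 4, 3, 4, 3, 4], [3, 5, 3, 5, 3, 5], [3, 6, 3, 6, 3, 6], [4, 0, 4, 0], [4, 1, 4, 1], [4, 2, 4, 2], [4, 3, 4, 3, 4, 3], [4, 4], [4, 5, 4, 5], [4, 6, 4, 6], [5, 0, 5, 0], [5, 1, 5, 1], [5, 2, 5, 2], [5, 3, 5, 3, 5, 3], [5, 4, 5, 4], [5, 5], [5, 6, 5, 6, 5, 6, 5, 6], [6, 0, 6, 0], [6, 1, 6, 1], [6, 2, 6, 2], [6, 3, 6, 3, 6, 3], [6, 4, 6, 4], [6, 5, 6, 5, 6, 5, 6, 5], [6, 6], [4, 6, 5, 6, 5], [4, 2, 1, 0, 2, 1, 0, 2, 1, 0], [0, 3, 2, 3, 2, 3, 2, 3, 2, 3, 2], [2, 3, 5, 6, 2, 3, 5, 6, 2, 3, 5, 6, 2, 3, 5, 6], [5, 6, 3]]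

/-- The words checked on the permutation model. -/
def mwords : List (List ℕ) := [[0, 1, 0, 1, 0, 1, 0, 1], [0, 2, 0, 2], [0, 3, 0, 3], [0, 4, 0, 4], [0, 5, 0, 5], [0, 6, 0, 6], [1, 2, 1, 2, 1, 2], [1, 3, 1, 3], [1, 4, 1, 4], [1, 5, 1, 5], [1, 6, 1, 6], [2, 3, 2, 3, 2, 3, 2, 3, 2, 3, 2, 3, 2, 3, 2, 3, 2, 3, 2, 3], [2, 4, 2, 4], [2, 5, 2, 5], [2, 6, 2, 6], [3, 4, 3, 4, 3, 4], [3, 5, 3, 5, 3, 5], [3, 6, 3, 6, 3, 6], [4, 5, 4, 5], [4, 6, 4, 6], [5, 6, 5, 6, 5, 6, 5, 6], [4, 6, 5, 6, 5], [4, 2, 1, 0, 2, 1, 0, 2, 1, 0], [0, 3, 2, 3, 2, 3, 2, 3, 2, 3, 2], [2, 3, 5, 6, 2, 3, 5, 6, 2, 3, 5, 6, 2, 3, 5, 6], [5, 6, 3]]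

/-- The table. -/
noncomputable def tab : Tab where
  k := 7
  inv := fun c => c
  N := 11
  n := 1
  Tmax := 65
  wn := 5
  mn := 0x1f
  subs := []
  rot := fun i => rotT.getF i
  ent := fun c i => bget2 entT_0 1 10 11 0x7ff 1023 c i
  cer := fun c i => bget2 cerT_0 1 11 8 0xff 2047 c i
  tau := fun c i => bget2 tauT_0 1 14 1 0x1 16383 c i
  lk := fun i => bget lkT_0 10 12 0xfff 1023 i
  lc := fun i => bget lcT_0 10 14 0x3fff 1023 i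
  pn := fun i => bget pnT_0 11 8 0xff 2047 i
  cls := fun i => bget clsT_0 14 1 0x1 16383 i
  rep := fun i => bget repT_0 14 1 0x1 16383 i

end Cfsg.Agent.Helper9.TCData.HeCX
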